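import Mathlib.RingTheory.AlgebraicIndependent.TranscendenceBasis
import Mathlib.FieldTheory.IntermediateField.Adjoin.Basic

/-!
# Function fields of transcendence degree one: a separating-free "Noether normalization"

A finitely generated field extension `K/k` of transcendence degree one is finite over `k(t)` for a
transcendental `t`.
-/

set_option autoImplicit false
universe u

namespace Groth.Agent.H22.NCurve

open IntermediateField

theorem exists_transcendental_finite (k K : Type u) [Field k] [Field K] [Algebra k K]
    (hfg : (⊤ : IntermediateField k K).FG) (htr : Algebra.trdeg k K = 1) :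
    ∃ t : K, Transcendental k t ∧ FiniteDimensional (IntermediateField.adjoin k {t}) K := by
  obtain ⟨ι, x, hx⟩ := exists_isTranscendenceBasis' (R := k) (A := K)
  have hcard : Cardinal.mk ι = 1 := by rw [hx.cardinalMk_eq_trdeg, htr]
  obtain ⟨hsub, ⟨i₀⟩⟩ := Cardinal.eq_one_iff_unique.mp hcard
  have hrange : Set.range x = {x i₀} := by
    ext y
    constructor
    · rintro ⟨i, rfl⟩
      rw [Subsingleton.elim i i₀]; rfl
    · rintro rfl
      exact ⟨i₀, rfl⟩
  refine ⟨x i₀, hx.1.transcendental i₀, ?_⟩
  have halg : Algebra.IsAlgebraic (IntermediateField.adjoin k {x i₀}) K := by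
    have := hx.isAlgebraic_field
    rwa [hrange] at this
  obtain ⟨S, hS⟩ := hfg
  set F := IntermediateField.adjoin k {x i₀} with hF
  have htop : IntermediateField.adjoin F (S : Set K) = ⊤ := by
    rw [eq_top_iff]
    intro y _
    have h1 : IntermediateField.adjoin k (S : Set K) ≤
        (IntermediateField.adjoin F (S : Set K)).restrictScalars k := by
      rw [IntermediateField.adjoin_le_iff]
      intro s hs
      exact IntermediateField.subset_adjoin F _ hs
    have h2 : y ∈ IntermediateField.adjoin k (S : Set K) := by rw [hS]; trivial
    exact h1 h2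
  have hfin : FiniteDimensional F (IntermediateField.adjoin F (S : Set K)) :=
    IntermediateField.finiteDimensional_adjoin (fun s _ => (halg.isAlgebraic s).isIntegral)
  rw [htop] at hfin
  exact Module.Finite.equiv (IntermediateField.topEquiv (F := F) (E := K)).toLinearEquiv

/-- If `K` is finite over `k(t)` and the image of a field `L` in `K` contains `k` and `t`, then `K`
is finite over `L`. -/
theorem finite_of_range {k K L : Type*} [Field k] [Field K] [Algebra k K] [Field L] (t : K)
    [FiniteDimensional (IntermediateField.adjoin k {t}) K] (φ : L →+* K)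
    (ht : t ∈ φ.range) (hk : ∀ c : k, algebraMap k K c ∈ φ.range) :
    letI := φ.toAlgebra
    Module.Finite L K := by
  letI := φ.toAlgebra
  let E : IntermediateField k K := φ.fieldRange.toIntermediateField (fun c => hk c)
  have hle : IntermediateField.adjoin k {t} ≤ E := by
    rw [IntermediateField.adjoin_le_iff]
    rintro _ rfl
    exact ht
  obtain ⟨s, hs⟩ := (Module.Finite.fg_top :
    (⊤ : Submodule (IntermediateField.adjoin k {t}) K).FG)
  refine ⟨⟨s, ?_⟩⟩
  have key : ∀ x ∈ Submodule.span (IntermediateField.adjoin k {t}) (s : Set K),
      x ∈ Submodule.span L (s : Set K) := by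
    intro x hx
    induction hx using Submodule.span_induction with
    | mem y hy => exact Submodule.subset_span hy
    | zero => exact Submodule.zero_mem _
    | add y z _ _ hy hz => exact Submodule.add_mem _ hy hz
    | smul c y _ hy =>
      obtain ⟨l, hl⟩ : (c : K) ∈ φ.range := hle c.2
      have : c • y = l • y := by
        rw [Algebra.smul_def, Algebra.smul_def]
        show (c : K) * y = φ l * y
        rw [hl]
      rw [this]
      exact Submodule.smul_mem _ l hy
  rw [eq_top_iff]
  intro x _
  apply key
  rw [hs]; trivial

end Groth.Agent.H22.NCurve
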