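import Groth.Agent.H22.NCurve.Compl1
import Groth.Agent.H22.Sigma.Proper
import Groth.Agent.H17.StalkComponents2
import Groth.Agent.H12.Topo

/-!
# Completion of a normal curve (general case)
-/

set_option autoImplicit false
set_option linter.style.haveILetI false
universe u

namespace Groth.Agent.H22.NCurve

open AlgebraicGeometry CategoryTheory Limits TopologicalSpace

section OpenImm

variable {U X : Scheme.{u}} (j : U ⟶ X) [IsOpenImmersion j]

/-- The stalk isomorphism of an open immersion. -/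
noncomputable def stalkEquivOfOpenImm (x : U) : X.presheaf.stalk (j x) ≃+* U.presheaf.stalk x :=
  (asIso (j.stalkMap x)).commRingCatIsoToRingEquiv

lemma ringKrullDim_stalk_of_isOpenImmersion (x : U) :
    ringKrullDim (X.presheaf.stalk (j x)) = ringKrullDim (U.presheaf.stalk x) :=
  ringKrullDim_eq_of_ringEquiv (stalkEquivOfOpenImm j x)

lemma isNormal_stalk_of_isOpenImmersion (x : U)
    (h : IsDomain (X.presheaf.stalk (j x)) ∧ IsIntegrallyClosed (X.presheaf.stalk (j x))) :
    IsDomain (U.presheaf.stalk x) ∧ IsIntegrallyClosed (U.presheaf.stalk x) := by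
  obtain ⟨h1, h2⟩ := h
  exact ⟨(stalkEquivOfOpenImm j x).symm.toMulEquiv.isDomain _,
    IsIntegrallyClosed.of_equiv (stalkEquivOfOpenImm j x)⟩

lemma isNormal_stalk_of_isOpenImmersion' (x : U)
    (h : IsDomain (U.presheaf.stalk x) ∧ IsIntegrallyClosed (U.presheaf.stalk x)) :
    IsDomain (X.presheaf.stalk (j x)) ∧ IsIntegrallyClosed (X.presheaf.stalk (j x)) := by
  obtain ⟨h1, h2⟩ := h
  exact ⟨(stalkEquivOfOpenImm j x).toMulEquiv.isDomain _,
    IsIntegrallyClosed.of_equiv (stalkEquivOfOpenImm j x).symm⟩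

include j in
lemma isNormalScheme_of_isOpenImmersion (h : Pi1.IsNormalScheme X) : Pi1.IsNormalScheme U :=
  fun x => isNormal_stalk_of_isOpenImmersion j x (h (j x))

lemma isClosed_singleton_of_isOpenImmersion (hj : IsClosed (Set.range j)) (x : U)
    (hx : IsClosed ({x} : Set U)) : IsClosed ({j x} : Set X) := by
  have hce : Topology.IsClosedEmbedding j := ⟨j.isOpenEmbedding.isEmbedding, hj⟩
  have := hce.isClosedMap _ hx
  rwa [Set.image_singleton] at this

lemma isClosed_singleton_of_isOpenImmersion' (x : U)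
    (hx : IsClosed ({j x} : Set X)) : IsClosed ({x} : Set U) := by
  have : ({x} : Set U) = j ⁻¹' {j x} := by
    ext y
    simp only [Set.mem_singleton_iff, Set.mem_preimage]
    exact ⟨fun h => h ▸ rfl, fun h => j.isOpenEmbedding.injective h⟩
  rw [this]
  exact hx.preimage j.continuous

end OpenImm

/-- Variant of `exists_completion_of_isIntegral` with an explicit structure morphism. -/
theorem exists_completion_of_isIntegral' (k : Type u) [Field k] (V : Scheme.{u})
    (s : V ⟶ Spec (CommRingCat.of k)) [LocallyOfFiniteType s] [QuasiCompact s] [IsSeparated s]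
    [IsIntegral V]
    (hcurve : ∀ x : V, IsClosed ({x} : Set V) → ringKrullDim (V.presheaf.stalk x) = 1)
    (hnorm : Pi1.IsNormalScheme V) :
    ∃ (C : Scheme.{u}) (sc : C ⟶ Spec (CommRingCat.of k)) (j : V ⟶ C), IsOpenImmersion j ∧
      j ≫ sc = s ∧ IsProper sc ∧ IsIntegral C ∧ Pi1.IsNormalScheme C ∧
      ∀ x : C, IsClosed ({x} : Set C) → ringKrullDim (C.presheaf.stalk x) = 1 := by
  letI : V.Over (Spec (CommRingCat.of k)) := ⟨s⟩
  have : LocallyOfFiniteType (V ↘ (Spec (CommRingCat.of k))) := ‹LocallyOfFiniteType s›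
  have : QuasiCompact (V ↘ (Spec (CommRingCat.of k))) := ‹QuasiCompact s›
  have : IsSeparated (V ↘ (Spec (CommRingCat.of k))) := ‹IsSeparated s›
  exact exists_completion_of_isIntegral k V hcurve hnorm

/-- Completion of a clopen irreducible part of a normal curve. -/
theorem exists_completion_component (k : Type u) [Field k] (X : Scheme.{u})
    (s : X ⟶ Spec (CommRingCat.of k)) [LocallyOfFiniteType s] [IsSeparated s] [CompactSpace X]
    (hcurve : ∀ x : X, IsClosed ({x} : Set X) → ringKrullDim (X.presheaf.stalk x) = 1)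
    (hnorm : Pi1.IsNormalScheme X) (U : X.Opens) (hUc : IsClosed (U : Set X))
    (hUi : IsIrreducible (U : Set X)) :
    ∃ (C : Scheme.{u}) (sc : C ⟶ Spec (CommRingCat.of k)) (j : U.toScheme ⟶ C),
      IsOpenImmersion j ∧ j ≫ sc = U.ι ≫ s ∧ IsProper sc ∧ IsIntegral C ∧
      Pi1.IsNormalScheme C ∧
      ∀ x : C, IsClosed ({x} : Set C) → ringKrullDim (C.presheaf.stalk x) = 1 := by
  have hred : ∀ x : X, _root_.IsReduced (X.presheaf.stalk x) := fun x => by
    have := (hnorm x).1
    infer_instance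
  have : IsReduced X := isReduced_of_isReduced_stalk X
  have : IsReduced U.toScheme := isReduced_of_isOpenImmersion U.ι
  have : IrreducibleSpace U.toScheme := Subtype.irreducibleSpace hUi
  have : IsIntegral U.toScheme := isIntegral_of_irreducibleSpace_of_isReduced _
  have : CompactSpace U.toScheme := isCompact_iff_compactSpace.mp hUc.isCompact
  have : QuasiCompact (U.ι ≫ s) := quasiCompact_of_compactSpace _
  have hrange : IsClosed (Set.range U.ι) := by
    rw [Scheme.Opens.range_ι]
    exact hUc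
  refine exists_completion_of_isIntegral' k U.toScheme (U.ι ≫ s) ?_
    (isNormalScheme_of_isOpenImmersion U.ι hnorm)
  intro x hx
  rw [← ringKrullDim_stalk_of_isOpenImmersion U.ι x]
  exact hcurve _ (isClosed_singleton_of_isOpenImmersion U.ι hrange x hx)

/-- Every normal curve over a field has a normal proper completion. -/
theorem exists_completion (k : Type u) [Field k] (X : Scheme.{u})
    (s : X ⟶ Spec (CommRingCat.of k)) [LocallyOfFiniteType s] [QuasiCompact s] [IsSeparated s]
    (hcurve : ∀ x : X, IsClosed ({x} : Set X) → ringKrullDim (X.presheaf.stalk x) = 1)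
    (hnorm : Pi1.IsNormalScheme X) :
    ∃ (Xc : Scheme.{u}) (sc : Xc ⟶ Spec (CommRingCat.of k)) (j : X ⟶ Xc), IsOpenImmersion j ∧
      Dense (Set.range j) ∧ j ≫ sc = s ∧ IsProper sc ∧ Pi1.IsNormalScheme Xc ∧
      ∀ x : Xc, IsClosed ({x} : Set Xc) → ringKrullDim (Xc.presheaf.stalk x) = 1 := by
  have : CompactSpace X := QuasiCompact.compactSpace_of_compactSpace s
  have : IsLocallyNoetherian X := LocallyOfFiniteType.isLocallyNoetherian s
  have : IsNoetherian X := { }
  have : NoetherianSpace X := inferInstance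
  have hfin : (irreducibleComponents X).Finite := NoetherianSpace.finite_irreducibleComponents
  have hdisj : (irreducibleComponents X).PairwiseDisjoint id := by
    rw [Groth.Agent.H17.pairwiseDisjoint_irreducibleComponents_iff]
    intro x
    have := (hnorm x).1
    rw [nilradical_eq_zero]
    exact Ideal.bot_prime
  have hopen : ∀ Z ∈ irreducibleComponents X, IsOpen Z :=
    Groth.Agent.H12.isOpen_irreducibleComponents_of_pairwiseDisjoint
      (fun x => ⟨Set.univ, Filter.univ_mem, inferInstance⟩) hdisj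
  let ι : Type u := ↥(irreducibleComponents (X : Type u))
  have : Finite ι := hfin.to_subtype
  let U : ι → X.Opens := fun Z => ⟨Z.1, hopen Z.1 Z.2⟩
  have hUc : ∀ Z, IsClosed (U Z : Set X) := fun Z => isClosed_of_mem_irreducibleComponents Z.1 Z.2
  have hUi : ∀ Z, IsIrreducible (U Z : Set X) := fun Z => Z.2.1
  choose C sc j hj1 hj2 hj3 hj4 hj5 hj6 using fun Z =>
    exists_completion_component k X s hcurve hnorm (U Z) (hUc Z) (hUi Z)
  -- `X` is the coproduct of the `U Z`
  have hcov : ⨆ Z, ((U Z).ι).opensRange = ⊤ := by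
    rw [eq_top_iff]
    intro x _
    simp only [Scheme.Opens.opensRange_ι]
    exact Opens.mem_iSup.mpr ⟨⟨irreducibleComponent x,
      irreducibleComponent_mem_irreducibleComponents x⟩, mem_irreducibleComponent⟩
  have hdisj' : Pairwise (Function.onFun Disjoint (fun Z => ((U Z).ι).opensRange)) := by
    intro Z Z' hne
    simp only [Function.onFun, Scheme.Opens.opensRange_ι]
    rw [← Opens.coe_disjoint]
    exact hdisj Z.2 Z'.2 (fun h => hne (Subtype.ext h))
  obtain ⟨hc⟩ := nonempty_isColimit_cofanMk_of (fun Z => (U Z).ι) hcov hdisj'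
  have hD : IsIso (Sigma.desc (fun Z => (U Z).ι)) :=
    (Cofan.nonempty_isColimit_iff_isIso_sigmaDesc (Cofan.mk X fun Z => (U Z).ι)).mp ⟨hc⟩
  let D : (∐ fun Z => (U Z).toScheme) ⟶ X := Sigma.desc (fun Z => (U Z).ι)
  let E : (∐ fun Z => (U Z).toScheme) ⟶ ∐ C := Sigma.desc (fun Z => j Z ≫ Sigma.ι C Z)
  have hE : IsOpenImmersion E := by
    refine isOpenImmersion_sigmaDesc _ _ ?_
    intro Z Z' hne
    have h1 := disjoint_opensRange_sigmaι C Z Z' hne
    rw [← Opens.coe_disjoint] at h1
    refine Set.disjoint_of_subset ?_ ?_ h1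
    · rintro _ ⟨x, rfl⟩
      exact ⟨j Z x, (Scheme.Hom.comp_apply _ _ _).symm⟩
    · rintro _ ⟨x, rfl⟩
      exact ⟨j Z' x, (Scheme.Hom.comp_apply _ _ _).symm⟩
  have hDE : ∀ Z, (U Z).ι ≫ inv D ≫ E = j Z ≫ Sigma.ι C Z := by
    intro Z
    have h1 : (U Z).ι = Sigma.ι (fun Z => (U Z).toScheme) Z ≫ D :=
      (Sigma.ι_desc (fun Z => (U Z).ι) Z).symm
    rw [h1, Category.assoc, IsIso.hom_inv_id_assoc]
    exact Sigma.ι_desc (fun Z => j Z ≫ Sigma.ι C Z) Z
  have : ∀ Z, IsProper (sc Z) := hj3
  refine ⟨∐ C, Sigma.desc sc, inv D ≫ E, inferInstance, ?_, ?_,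
    SigmaProper.isProper_sigmaDesc sc, ?_, ?_⟩
  · -- density
    rw [dense_iff_closure_eq, Set.eq_univ_iff_forall]
    intro y
    obtain ⟨Z, c, rfl⟩ := SigmaProper.exists_sigmaι_eq C y
    have : IsIntegral (C Z) := hj4 Z
    have hne : (Set.range (j Z)).Nonempty := by
      obtain ⟨x, hx⟩ := (hUi Z).nonempty
      exact ⟨j Z ⟨x, hx⟩, ⟨x, hx⟩, rfl⟩
    have hd : Dense (Set.range (j Z)) :=
      (j Z).isOpenEmbedding.isOpen_range.dense hne
    have h1 : c ∈ closure (Set.range (j Z)) := hd c
    have h2 := image_closure_subset_closure_image (Sigma.ι C Z).continuous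
      (Set.mem_image_of_mem _ h1)
    refine closure_mono ?_ h2
    rintro _ ⟨_, ⟨x, rfl⟩, rfl⟩
    refine ⟨(U Z).ι x, ?_⟩
    rw [← Scheme.Hom.comp_apply, hDE Z, Scheme.Hom.comp_apply]
  · -- compatibility
    rw [← cancel_epi D]
    refine Sigma.hom_ext _ _ fun Z => ?_
    have h1 : Sigma.ι (fun Z => (U Z).toScheme) Z ≫ D = (U Z).ι :=
      Sigma.ι_desc (fun Z => (U Z).ι) Z
    rw [reassoc_of% h1, Category.assoc, reassoc_of% (hDE Z), Sigma.ι_desc, hj2 Z,
      reassoc_of% h1]
  · -- normality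
    intro y
    obtain ⟨Z, c, rfl⟩ := SigmaProper.exists_sigmaι_eq C y
    exact isNormal_stalk_of_isOpenImmersion' (Sigma.ι C Z) c (hj5 Z c)
  · -- dimension
    intro y hy
    obtain ⟨Z, c, rfl⟩ := SigmaProper.exists_sigmaι_eq C y
    rw [ringKrullDim_stalk_of_isOpenImmersion (Sigma.ι C Z) c]
    exact hj6 Z c (isClosed_singleton_of_isOpenImmersion' (Sigma.ι C Z) c hy)

end Groth.Agent.H22.NCurve
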