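import Groth.Prelude.Def_CurvBase
import Groth.Agent.H38.VarietyN2
import Groth.Agent.H14.DimTrdeg

/-!
# Local rings at closed points of an integral scheme locally of finite type over a field

`dim O_{X,x} = trdeg_k K(X)` for a closed point `x`.
-/

set_option autoImplicit false
set_option linter.style.haveILetI false
universe u

namespace Groth.Agent.H22.NCurve

open AlgebraicGeometry CategoryTheory Groth.Agent.H38.NormAffine

attribute [local instance] Curv2.stalkAlgebra

/-- A point of an affine open that is closed in the whole scheme corresponds to a maximal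
ideal. -/
theorem isMaximal_primeIdealOf_of_isClosed {X : Scheme.{u}} {V : X.Opens} (hV : IsAffineOpen V)
    (x : X) (hxV : x ∈ V) (hx : IsClosed ({x} : Set X)) :
    (hV.primeIdealOf ⟨x, hxV⟩).asIdeal.IsMaximal := by
  rw [← PrimeSpectrum.isClosed_singleton_iff_isMaximal]
  have h1 : hV.fromSpec (hV.primeIdealOf ⟨x, hxV⟩) = x := hV.fromSpec_primeIdealOf ⟨x, hxV⟩
  have h2 : ({hV.primeIdealOf ⟨x, hxV⟩} : Set (PrimeSpectrum Γ(X, V))) =
      hV.fromSpec ⁻¹' {x} := by
    ext p
    simp only [Set.mem_singleton_iff, Set.mem_preimage]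
    constructor
    · rintro rfl
      exact h1
    · intro hp
      exact hV.fromSpec.isOpenEmbedding.injective (hp.trans h1.symm)
  rw [h2]
  exact hx.preimage hV.fromSpec.continuous

theorem ringKrullDim_stalk_of_isClosed (k : Type u) [Field k] (X : Scheme.{u})
    [X.Over (Spec (CommRingCat.of k))] [IsIntegral X]
    [LocallyOfFiniteType (X ↘ Spec (CommRingCat.of k))] (x : X) (hx : IsClosed ({x} : Set X)) :
    ∃ n : ℕ, Algebra.trdeg k (X.presheaf.stalk (genericPoint X)) = n ∧
      ringKrullDim (X.presheaf.stalk x) = n := by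
  obtain ⟨_, ⟨V : X.Opens, hV', rfl⟩, hxV, -⟩ :=
    X.isBasis_affineOpens.exists_subset_of_mem_open (Set.mem_univ x) isOpen_univ
  have hV : IsAffineOpen V := hV'
  have hne : (V : Set X).Nonempty := ⟨x, hxV⟩
  have hne' : Nonempty ↥V := ⟨⟨x, hxV⟩⟩
  haveI hdom : IsDomain Γ(X, V) := @IsIntegral.component_integral X _ V hne'
  letI algk : Algebra k Γ(X, V) := (Groth.Agent.H38.VarietyN2.secHom k X V).toAlgebra
  haveI : Algebra.FiniteType k Γ(X, V) := Groth.Agent.H38.VarietyN2.finiteType_secHom k X hV
  obtain ⟨n, h1, -, h3⟩ := Groth.Agent.H14.ringKrullDim_eq_trdeg_of_finiteType_domain k Γ(X, V)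
  refine ⟨n, ?_, ?_⟩
  · rw [← h1]
    letI := germAlg X hne
    haveI hfr := isFractionRing_germ X hV hne
    haveI : IsScalarTower k Γ(X, V) (X.presheaf.stalk (genericPoint X)) := by
      refine IsScalarTower.of_algebraMap_eq (fun c => ?_)
      change (X.presheaf.germ ⊤ (genericPoint X) trivial).hom
        (Coh.toGlobal (X ↘ Spec (CommRingCat.of k)) c) =
        (X.presheaf.germ V (genericPoint X) (genericPoint_mem X hne)).hom
          (Groth.Agent.H38.VarietyN2.secHom k X V c)
      unfold Groth.Agent.H38.VarietyN2.secHom Coh.toGlobal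
      simp only [RingHom.comp_apply]
      rw [Scheme.Hom.appLE]
      simp only [CommRingCat.hom_comp, RingHom.comp_apply]
      exact (TopCat.Presheaf.germ_res_apply _ _ _ _ _).symm
    exact ((FractionRing.algEquiv Γ(X, V) (X.presheaf.stalk (genericPoint X))).restrictScalars
      k).symm.trdeg_eq
  · haveI hmax := isMaximal_primeIdealOf_of_isClosed hV x hxV hx
    rw [← h3 (hV.primeIdealOf ⟨x, hxV⟩).asIdeal]
    letI : Algebra Γ(X, V) (X.presheaf.stalk x) :=
      TopCat.Presheaf.algebra_section_stalk _ ⟨x, hxV⟩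
    haveI hloc : IsLocalization.AtPrime (X.presheaf.stalk x)
        (hV.primeIdealOf ⟨x, hxV⟩).asIdeal := hV.isLocalization_stalk ⟨x, hxV⟩
    exact ringKrullDim_eq_of_ringEquiv
      (IsLocalization.algEquiv (hV.primeIdealOf ⟨x, hxV⟩).asIdeal.primeCompl
        (X.presheaf.stalk x)
        (Localization.AtPrime (hV.primeIdealOf ⟨x, hxV⟩).asIdeal)).toRingEquiv

end Groth.Agent.H22.NCurve
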