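import Groth.Prelude.Def_CurvBase
import Groth.Agent.H22.NCurve.Dim
import Mathlib.FieldTheory.IntermediateField.Adjoin.Algebra

/-!
# The function field of an integral scheme locally of finite type over a field
-/

set_option autoImplicit false
set_option linter.style.haveILetI false
universe u

namespace Groth.Agent.H22.NCurve

open AlgebraicGeometry CategoryTheory Groth.Agent.H38.NormAffine

attribute [local instance] Curv2.stalkAlgebra

variable (k : Type u) [Field k] (X : Scheme.{u}) [X.Over (Spec (CommRingCat.of k))] [IsIntegral X]
  [LocallyOfFiniteType (X ↘ Spec (CommRingCat.of k))]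

/-- The sections over a nonempty open form a scalar tower with the function field. -/
theorem isScalarTower_sections_functionField {V : X.Opens} (hne : (V : Set X).Nonempty) :
    letI : Algebra k Γ(X, V) := (Groth.Agent.H38.VarietyN2.secHom k X V).toAlgebra
    letI := germAlg X hne
    IsScalarTower k Γ(X, V) (X.presheaf.stalk (genericPoint X)) := by
  letI : Algebra k Γ(X, V) := (Groth.Agent.H38.VarietyN2.secHom k X V).toAlgebra
  letI := germAlg X hne
  refine IsScalarTower.of_algebraMap_eq (fun c => ?_)
  change (X.presheaf.germ ⊤ (genericPoint X) trivial).hom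
    (Coh.toGlobal (X ↘ Spec (CommRingCat.of k)) c) =
    (X.presheaf.germ V (genericPoint X) (genericPoint_mem X hne)).hom
      (Groth.Agent.H38.VarietyN2.secHom k X V c)
  unfold Groth.Agent.H38.VarietyN2.secHom Coh.toGlobal
  simp only [RingHom.comp_apply]
  rw [Scheme.Hom.appLE]
  simp only [CommRingCat.hom_comp, RingHom.comp_apply]
  exact (TopCat.Presheaf.germ_res_apply _ _ _ _ _).symm

/-- The function field of an integral scheme locally of finite type over `k` is a finitely
generated field extension of `k`. -/
theorem essFiniteType_functionField :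
    Algebra.EssFiniteType k (X.presheaf.stalk (genericPoint X)) := by
  obtain ⟨_, ⟨V : X.Opens, hV', rfl⟩, hxV, -⟩ :=
    X.isBasis_affineOpens.exists_subset_of_mem_open (Set.mem_univ (genericPoint X)) isOpen_univ
  have hV : IsAffineOpen V := hV'
  have hne : (V : Set X).Nonempty := ⟨_, hxV⟩
  letI algk : Algebra k Γ(X, V) := (Groth.Agent.H38.VarietyN2.secHom k X V).toAlgebra
  haveI : Algebra.FiniteType k Γ(X, V) := Groth.Agent.H38.VarietyN2.finiteType_secHom k X hV
  letI := germAlg X hne
  haveI hfr := isFractionRing_germ X hV hne
  haveI := isScalarTower_sections_functionField k X hne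
  haveI : Algebra.EssFiniteType Γ(X, V) (X.presheaf.stalk (genericPoint X)) :=
    Algebra.EssFiniteType.of_isLocalization _ (nonZeroDivisors Γ(X, V))
  exact Algebra.EssFiniteType.comp k Γ(X, V) _

theorem fg_top_functionField :
    (⊤ : IntermediateField k (X.presheaf.stalk (genericPoint X))).FG := by
  haveI := essFiniteType_functionField k X
  exact IntermediateField.fg_top k _

/-- If all closed points of a nonempty quasi-compact integral scheme locally of finite type over
`k` have local rings of dimension one, the function field has transcendence degree one. -/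
theorem trdeg_functionField_eq_one [CompactSpace X]
    (hcurve : ∀ x : X, IsClosed ({x} : Set X) → ringKrullDim (X.presheaf.stalk x) = 1) :
    Algebra.trdeg k (X.presheaf.stalk (genericPoint X)) = 1 := by
  obtain ⟨x, -, hx⟩ := IsClosed.exists_closed_singleton (isClosed_univ (X := X))
    ⟨genericPoint X, trivial⟩
  obtain ⟨n, hn1, hn2⟩ := ringKrullDim_stalk_of_isClosed k X x hx
  rw [hcurve x hx] at hn2
  have : n = 1 := by
    have h : ((1 : ℕ∞) : WithBot ℕ∞) = ((n : ℕ∞) : WithBot ℕ∞) := hn2
    have h' : (1 : ℕ∞) = (n : ℕ∞) := WithBot.coe_injective h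
    exact_mod_cast h'.symm
  rw [hn1, this]
  simp

end Groth.Agent.H22.NCurve
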