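import Groth.Agent.H22.NCurve.Main
import Groth.Agent.H22.NCurve.FunField
import Groth.Agent.H22.CurveOpenImm
import Groth.Agent.S4445

/-!
# Completion of an integral normal curve
-/

set_option autoImplicit false
set_option linter.style.haveILetI false
universe u

namespace Groth.Agent.H22.NCurve

open AlgebraicGeometry CategoryTheory

attribute [local instance] Curv2.stalkAlgebra

/-- Variant of `CurveOpenImm.isOpenImmersion_of_birational` with the dimension hypothesis on the
local rings. -/
theorem isOpenImmersion_of_birational' {X Y : Scheme.{u}} [IsIntegral X] [IsIntegral Y]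
    [IsLocallyNoetherian X] [IsLocallyNoetherian Y] [CompactSpace Y]
    (hdimY : ∀ y : Y, ringKrullDim (Y.presheaf.stalk y) ≤ 1)
    (hN : ∀ y : Y, IsIntegrallyClosed (Y.presheaf.stalk y)) (f : X ⟶ Y) [LocallyOfFiniteType f]
    [IsSeparated f] [QuasiCompact f] (e : f (genericPoint X) = genericPoint Y)
    (hiso : IsIso (f.stalkMap (genericPoint X))) : IsOpenImmersion f := by
  have : IsNoetherian Y := { }
  have : TopologicalSpace.NoetherianSpace Y := inferInstance
  have hbij : Function.Bijective (f.stalkMap (genericPoint X)).hom :=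
    (ConcreteCategory.isIso_iff_bijective _).mp hiso
  obtain ⟨U, hU1, hU2⟩ :=
    ZMTLocalIso.exists_isIso_morphismRestrict_of_bijective_stalkMap f (genericPoint X) hbij
  have hdense : Dense ((f ⁻¹ᵁ U : X.Opens) : Set X) :=
    (f ⁻¹ᵁ U).isOpen.dense ⟨genericPoint X, hU1⟩
  have hfib : ∀ y : Y, (f ⁻¹' {y}).Finite := fun y =>
    BirFinFib.finite_fibre f U hdense hU2 y (hdimY y)
  have : LocallyQuasiFinite f := LocallyQuasiFinite.of_finite_preimage_singleton f hfib
  exact BirOpenImm.isOpenImmersion_of_birational_of_locallyQuasiFinite f e hiso hN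

/-- If the closed points of a compact scheme have local rings of dimension at most one, so do all
points. -/
theorem ringKrullDim_stalk_le_one_of_closed {Y : Scheme.{u}} [CompactSpace Y]
    (h : ∀ y : Y, IsClosed ({y} : Set Y) → ringKrullDim (Y.presheaf.stalk y) = 1) (y : Y) :
    ringKrullDim (Y.presheaf.stalk y) ≤ 1 := by
  obtain ⟨x, hx, hxc⟩ := IsClosed.exists_closed_singleton (isClosed_closure (s := ({y} : Set Y)))
    ⟨y, subset_closure rfl⟩
  have hyx : y ⤳ x := specializes_iff_mem_closure.mpr hx
  have hle : x ≤ y := Scheme.le_iff_specializes.mpr hyx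
  rw [ringKrullDim_stalk_eq_coheight]
  have h1 := h x hxc
  rw [ringKrullDim_stalk_eq_coheight] at h1
  calc ((Order.coheight y : ℕ∞) : WithBot ℕ∞) ≤ ((Order.coheight x : ℕ∞) : WithBot ℕ∞) := by
        exact_mod_cast Order.coheight_anti hle
    _ = 1 := h1

/-- Every integral normal curve over a field embeds as an open subscheme of an integral normal
proper curve. -/
theorem exists_completion_of_isIntegral (k : Type u) [Field k] (V : Scheme.{u})
    [V.Over (Spec (CommRingCat.of k))] [LocallyOfFiniteType (V ↘ (Spec (CommRingCat.of k)))]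
    [QuasiCompact (V ↘ (Spec (CommRingCat.of k)))] [IsSeparated (V ↘ (Spec (CommRingCat.of k)))]
    [IsIntegral V]
    (hcurve : ∀ x : V, IsClosed ({x} : Set V) → ringKrullDim (V.presheaf.stalk x) = 1)
    (hnorm : Pi1.IsNormalScheme V) :
    ∃ (C : Scheme.{u}) (sc : C ⟶ Spec (CommRingCat.of k)) (j : V ⟶ C), IsOpenImmersion j ∧
      j ≫ sc = V ↘ (Spec (CommRingCat.of k)) ∧ IsProper sc ∧ IsIntegral C ∧
      Pi1.IsNormalScheme C ∧
      ∀ x : C, IsClosed ({x} : Set C) → ringKrullDim (C.presheaf.stalk x) = 1 := by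
  haveI hcpt : CompactSpace V :=
    QuasiCompact.compactSpace_of_compactSpace (V ↘ (Spec (CommRingCat.of k)))
  have hfg := fg_top_functionField k V
  have htr := trdeg_functionField_eq_one k V hcurve
  obtain ⟨C, hCo, hCi, hCp, hCn, hCd, e, he⟩ :=
    exists_curve k (V.presheaf.stalk (genericPoint V)) hfg htr
  let φ : C.functionField →ₐ[k] V.functionField := (AlgEquiv.ofRingEquiv (f := e) he).toAlgHom
  obtain ⟨u, ⟨hu1, hu, hu2⟩, -⟩ := Groth.Agent.S4445.result k V C hcurve hnorm hCd φ
  refine ⟨C, C ↘ (Spec (CommRingCat.of k)), u, ?_, hu1, hCp, hCi, hCn, hCd⟩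
  have : IsLocallyNoetherian V :=
    LocallyOfFiniteType.isLocallyNoetherian (V ↘ (Spec (CommRingCat.of k)))
  have : IsLocallyNoetherian C :=
    LocallyOfFiniteType.isLocallyNoetherian (C ↘ (Spec (CommRingCat.of k)))
  have : CompactSpace C :=
    QuasiCompact.compactSpace_of_compactSpace (C ↘ (Spec (CommRingCat.of k)))
  have hlft : LocallyOfFiniteType u := by
    have : LocallyOfFiniteType (u ≫ (C ↘ (Spec (CommRingCat.of k)))) := hu1 ▸ inferInstance
    exact locallyOfFiniteType_of_comp u (C ↘ (Spec (CommRingCat.of k)))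
  have hsep : IsSeparated u := by
    have : IsSeparated (u ≫ (C ↘ (Spec (CommRingCat.of k)))) := hu1 ▸ inferInstance
    exact IsSeparated.of_comp u (C ↘ (Spec (CommRingCat.of k)))
  have hqc : QuasiCompact u := by
    have : QuasiCompact (u ≫ (C ↘ (Spec (CommRingCat.of k)))) := hu1 ▸ inferInstance
    exact QuasiCompact.of_comp u (C ↘ (Spec (CommRingCat.of k)))
  have hbij : Function.Bijective (C.presheaf.stalkSpecializes (specializes_of_eq hu) ≫
      u.stalkMap (genericPoint V)).hom := by
    rw [hu2]
    exact e.bijective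
  have hiso1 : IsIso (C.presheaf.stalkSpecializes (specializes_of_eq hu) ≫
      u.stalkMap (genericPoint V)) := (ConcreteCategory.isIso_iff_bijective _).mpr hbij
  have hiso2 : IsIso (C.presheaf.stalkSpecializes (specializes_of_eq hu)) :=
    (C.presheaf.stalkCongr (Inseparable.of_eq hu.symm)).isIso_hom
  have hiso : IsIso (u.stalkMap (genericPoint V)) :=
    IsIso.of_isIso_comp_left (C.presheaf.stalkSpecializes (specializes_of_eq hu)) _
  exact isOpenImmersion_of_birational' (ringKrullDim_stalk_le_one_of_closed hCd)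
    (fun y => (hCn y).2) u hu hiso

end Groth.Agent.H22.NCurve
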