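import Groth.Prelude.Def_CurvBase
import Groth.Agent.H38.NormExt4
import Groth.Agent.H38.VarietyN2
import Groth.Agent.H38.N2FracExt

/-!
# Normalization of an integral proper `k`-scheme in a finite extension of its function field
-/

set_option autoImplicit false
set_option linter.style.haveILetI false
universe u

namespace Groth.Agent.H22.NCurve

open AlgebraicGeometry CategoryTheory Groth.Agent.H38.NormExt Groth.Agent.H38.NormAffine

section general
variable (k : Type u) [Field k] (P : Scheme.{u}) [P.Over (Spec (CommRingCat.of k))]
  [IsIntegral P] [IsProper (P ↘ Spec (CommRingCat.of k))]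
  (K : Type u) [Field K] (φ : P.functionField →+* K)

include k in
theorem quasiSeparatedSpace_of_proper : QuasiSeparatedSpace P :=
  quasiSeparatedSpace_of_quasiSeparated (P ↘ Spec (CommRingCat.of k))

variable [QuasiSeparatedSpace P]

include k in
/-- The normalization of `P` in a finite extension `K` of its function field is finite over
`P`. -/
theorem isFinite_fromNormalization
    (hfin : letI := φ.toAlgebra; FiniteDimensional P.functionField K) :
    IsFinite (gMor P K φ).fromNormalization := by
  apply Groth.Agent.H38.NormExt.isFinite_of_finite_integralClosure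
  intro U hU hne
  have hne' : Nonempty ↥U := ⟨⟨_, hne.some_mem⟩⟩
  letI := extAlg P K φ hne
  letI := germAlg P hne
  haveI hfr := isFractionRing_germ P hU hne
  haveI hdom : IsDomain Γ(P, U) := @IsIntegral.component_integral P _ U hne'
  letI := φ.toAlgebra
  haveI : IsScalarTower Γ(P, U) P.functionField K := IsScalarTower.of_algebraMap_eq (fun _ => rfl)
  haveI : FiniteDimensional P.functionField K := hfin
  exact Groth.Agent.H38.finite_integralClosure_of_isN2_of_finite Γ(P, U) P.functionField K
    (Groth.Agent.H38.VarietyN2.isN2_sections k P U hU hne')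

/-- The stalk of the normalization at the image of the point of `Spec K` maps bijectively to `K`
when `K` is finite over the function field. -/
theorem bijective_stalkClosedPointTo
    (hfin : letI := φ.toAlgebra; FiniteDimensional P.functionField K) :
    Function.Bijective (Scheme.stalkClosedPointTo (gMor P K φ).toNormalization).hom := by
  refine ⟨injective_stalkClosedPointTo P K φ, ?_⟩
  intro y
  have h := range_stalkClosedPointTo P K φ
  have hy : y ∈ Set.range (Scheme.stalkClosedPointTo (gMor P K φ).toNormalization).hom := by
    rw [h]
    letI := φ.toAlgebra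
    haveI : FiniteDimensional P.functionField K := hfin
    obtain ⟨q, hq, hq0⟩ := (Algebra.IsIntegral.isIntegral (R := P.functionField) y)
    exact ⟨q, hq, hq0⟩
  exact hy

end general

/-- Compatibility of `stalkClosedPointTo` with the structure maps to an affine base. -/
theorem stalkClosedPointTo_germ_toGlobal {X : Scheme.{u}} {R : CommRingCat.{u}} [IsLocalRing R]
    {A : Type u} [CommRing A] (t : Spec R ⟶ X) (q : X ⟶ Spec (CommRingCat.of A)) (ψ : A →+* R)
    (h : t ≫ q = Spec.map (CommRingCat.ofHom ψ)) (c : A) :
    (Scheme.stalkClosedPointTo t).hom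
      ((X.presheaf.germ ⊤ (t (IsLocalRing.closedPoint R)) trivial).hom (Coh.toGlobal q c)) =
        ψ c := by
  have key : ∀ (f : Spec R ⟶ Spec (CommRingCat.of A)) (_ : f = Spec.map (CommRingCat.ofHom ψ)),
      (Spec (CommRingCat.of A)).presheaf.germ ⊤ (f (IsLocalRing.closedPoint R)) trivial ≫
        Scheme.stalkClosedPointTo f = (Scheme.ΓSpecIso _).hom ≫ CommRingCat.ofHom ψ := by
    rintro _ rfl
    exact Scheme.germ_stalkClosedPointTo_Spec _
  have h1 := key (t ≫ q) h
  rw [Scheme.stalkClosedPointTo_comp] at h1
  have h2 := congr($(h1).hom ((Scheme.ΓSpecIso (CommRingCat.of A)).inv.hom c))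
  have h3 : (Scheme.ΓSpecIso (CommRingCat.of A)).hom.hom
      ((Scheme.ΓSpecIso (CommRingCat.of A)).inv.hom c) = c := by
    have := (Scheme.ΓSpecIso (CommRingCat.of A)).inv_hom_id
    exact congr($(this).hom c)
  simp only [CommRingCat.hom_comp, RingHom.comp_apply, CommRingCat.hom_ofHom] at h2
  rw [h3] at h2
  rw [← h2]
  have h4 := Scheme.Hom.germ_stalkMap_apply q ⊤ (t (IsLocalRing.closedPoint R)) trivial
    ((Scheme.ΓSpecIso (CommRingCat.of A)).inv.hom c)
  exact congrArg (Scheme.stalkClosedPointTo t).hom h4.symm

section ff
variable (k : Type u) [Field k] (P : Scheme.{u}) [P.Over (Spec (CommRingCat.of k))]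
  [IsIntegral P] [QuasiSeparatedSpace P]
  (K : Type u) [Field K] [Algebra k K] (φ : P.functionField →+* K)

/-- The structure of `k`-scheme on the normalization. -/
noncomputable abbrev normOver : (gMor P K φ).normalization.Over (Spec (CommRingCat.of k)) :=
  ⟨(gMor P K φ).fromNormalization ≫ (P ↘ Spec (CommRingCat.of k))⟩

/-- The function field of the normalization of `P` in `K` is `K`, compatibly with `k`. -/
theorem exists_ffEquiv
    (hfin : letI := φ.toAlgebra; FiniteDimensional P.functionField K)
    (hk : gMor P K φ ≫ (P ↘ Spec (CommRingCat.of k)) =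
      Spec.map (CommRingCat.ofHom (algebraMap k K))) :
    letI := normOver k P K φ
    ∃ e : (gMor P K φ).normalization.presheaf.stalk (genericPoint (gMor P K φ).normalization) ≃+* K,
      ∀ c : k, e (Curv2.stalkMap k (gMor P K φ).normalization
        (genericPoint (gMor P K φ).normalization) c) = algebraMap k K c := by
  letI := normOver k P K φ
  have hx' : (gMor P K φ).toNormalization (IsLocalRing.closedPoint (CommRingCat.of K)) =
      genericPoint (gMor P K φ).normalization := toNormalization_kPt P K φ
  suffices H : ∀ (y : (gMor P K φ).normalization)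
      (_ : (gMor P K φ).toNormalization (IsLocalRing.closedPoint (CommRingCat.of K)) = y),
      ∃ e : (gMor P K φ).normalization.presheaf.stalk y ≃+* K,
        ∀ c : k, e (Curv2.stalkMap k (gMor P K φ).normalization y c) = algebraMap k K c from
    H _ hx'
  rintro _ rfl
  refine ⟨RingEquiv.ofBijective _ (bijective_stalkClosedPointTo P K φ hfin), ?_⟩
  intro c
  have hcomp : (gMor P K φ).toNormalization ≫
      ((gMor P K φ).fromNormalization ≫ (P ↘ Spec (CommRingCat.of k))) =
      Spec.map (CommRingCat.ofHom (algebraMap k K)) := by
    rw [← Category.assoc, Scheme.Hom.toNormalization_fromNormalization]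
    exact hk
  exact stalkClosedPointTo_germ_toGlobal (R := CommRingCat.of K)
    (gMor P K φ).toNormalization _ (algebraMap k K) hcomp c

end ff

end Groth.Agent.H22.NCurve
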