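import Mathlib.AlgebraicGeometry.ProjectiveSpectrum.Basic
import Mathlib.RingTheory.Algebraic.Basic
import Groth.Agent.H18.PUP.Dehom
import Groth.Prelude.Def_CohB1

/-!
# The standard chart `D₊(X₁)` of `P¹_k` and a `K`-point `[t : 1]`
-/

set_option autoImplicit false
universe u

namespace Groth.Agent.H22.NCurve

open HomogeneousLocalization Groth.Agent.H18.PUP

section lift

variable {A S : Type*} [CommRing A] [CommRing S] [Algebra A S]
variable (𝒮 : ℕ → Submodule A S) [GradedAlgebra 𝒮] {B : Type*} [CommRing B]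

/-- the ring homomorphism out of the degree zero localisation `S_(g)` induced by a ring
homomorphism inverting `g` -/
noncomputable def awayLift (g : S) (F : S →+* B) (hF : IsUnit (F g)) : Away 𝒮 g →+* B :=
  (IsLocalization.Away.lift (S := Localization.Away g) g hF).comp
    (algebraMap (Away 𝒮 g) (Localization.Away g))

theorem awayLift_mk_mul {g : S} {d : ℕ} (hg : g ∈ 𝒮 d) (F : S →+* B) (hF : IsUnit (F g))
    (k : ℕ) (a : S) (ha : a ∈ 𝒮 (k • d)) :
    awayLift 𝒮 g F hF (Away.mk 𝒮 hg k a ha) * F g ^ k = F a := by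
  have h1 : awayLift 𝒮 g F hF (Away.mk 𝒮 hg k a ha) =
      IsLocalization.Away.lift (S := Localization.Away g) g hF
        (Localization.mk a (⟨g ^ k, ⟨k, rfl⟩⟩ : Submonoid.powers g)) := rfl
  have h2 : (Localization.mk a (⟨g ^ k, ⟨k, rfl⟩⟩ : Submonoid.powers g) : Localization.Away g) *
      algebraMap S (Localization.Away g) (g ^ k) = algebraMap S (Localization.Away g) a := by
    rw [Localization.mk_eq_mk']
    exact IsLocalization.mk'_spec _ a (⟨g ^ k, ⟨k, rfl⟩⟩ : Submonoid.powers g)
  have h3 := congrArg (IsLocalization.Away.lift (S := Localization.Away g) g hF) h2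
  rw [map_mul, IsLocalization.Away.lift_eq, IsLocalization.Away.lift_eq, map_pow] at h3
  rw [h1]
  exact h3

theorem awayLift_fromZero {g : S} (F : S →+* B) (hF : IsUnit (F g)) (a : 𝒮 0) :
    awayLift 𝒮 g F hF (fromZeroRingHom 𝒮 _ a) = F a := by
  change IsLocalization.Away.lift (S := Localization.Away g) g hF
    (algebraMap S (Localization.Away g) a) = F a
  rw [IsLocalization.Away.lift_eq]

/-- `awayLift` after dehomogenisation is the original map, when `F g = 1`. -/
theorem awayLift_dehom {g : S} (hg : g ∈ 𝒮 1) (F : S →+* B) (hFg : F g = 1) (a : S) :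
    awayLift 𝒮 g F (hFg ▸ isUnit_one) (dehom 𝒮 hg a) = F a := by
  classical
  induction a using DirectSum.Decomposition.inductionOn 𝒮 with
  | zero => simp
  | homogeneous a =>
    obtain ⟨a, ha⟩ := a
    rw [dehom_apply 𝒮 hg ha]
    have h := awayLift_mk_mul 𝒮 hg F (hFg ▸ isUnit_one) _ a (mem_smul_one 𝒮 ha)
    have h2 : ∀ n : ℕ, F g ^ n = 1 := fun n => by rw [hFg, one_pow]
    rw [h2, mul_one] at h
    exact h
  | add a b ha hb => rw [map_add, map_add, map_add, ha, hb]

theorem dehom_surjective {g : S} (hg : g ∈ 𝒮 1) : Function.Surjective (dehom 𝒮 hg) := by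
  intro z
  obtain ⟨n, a, ha, rfl⟩ := Away.mk_surjective 𝒮 hg z
  have ha' : a ∈ 𝒮 n := by simpa using ha
  exact ⟨a, dehom_apply 𝒮 hg ha'⟩

theorem dehom_self {g : S} (hg : g ∈ 𝒮 1) : dehom 𝒮 hg g = 1 := by
  rw [dehom_apply 𝒮 hg hg]
  apply HomogeneousLocalization.val_injective
  rw [Away.val_mk, HomogeneousLocalization.val_one, ← Localization.mk_one,
    Localization.mk_eq_mk_iff, Localization.r_iff_exists]
  exact ⟨1, by simp⟩

end lift

section P1

variable (k : Type u) [Field k] (K : Type u) [Field K] [Algebra k K] (u : K)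

/-- the variables are homogeneous of degree one -/
theorem X_mem_one (i : Fin (1 + 1)) :
    (MvPolynomial.X i : MvPolynomial (Fin (1 + 1)) k) ∈ CohB1.polyGrading 1 k 1 :=
  MvPolynomial.isHomogeneous_X k i

/-- evaluation at `(u, 1)` -/
noncomputable def evalHom : MvPolynomial (Fin (1 + 1)) k →+* K :=
  MvPolynomial.eval₂Hom (algebraMap k K) ![u, 1]

theorem evalHom_X1 : evalHom k K u (MvPolynomial.X 1) = 1 := by simp [evalHom]

theorem evalHom_X0 : evalHom k K u (MvPolynomial.X 0) = u := by simp [evalHom]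

theorem evalHom_C (c : k) : evalHom k K u (MvPolynomial.C c) = algebraMap k K c := by
  simp [evalHom]

/-- the chart map `(k[X₀,X₁]_{X₁})₀ → K`, `X₀/X₁ ↦ u` -/
noncomputable def chartHom : Away (CohB1.polyGrading 1 k) (MvPolynomial.X 1) →+* K :=
  awayLift (CohB1.polyGrading 1 k) (MvPolynomial.X 1) (evalHom k K u)
    (evalHom_X1 k K u ▸ isUnit_one)

theorem chartHom_dehom (a : MvPolynomial (Fin (1 + 1)) k) :
    chartHom k K u (dehom _ (X_mem_one k 1) a) = evalHom k K u a :=
  awayLift_dehom _ (X_mem_one k 1) _ (evalHom_X1 k K u) a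

/-- the surjection `k[T] → (k[X₀,X₁]_{X₁})₀`, `T ↦ X₀/X₁` -/
noncomputable def polyToAway :
    Polynomial k →+* Away (CohB1.polyGrading 1 k) (MvPolynomial.X 1) :=
  Polynomial.eval₂RingHom ((dehom _ (X_mem_one k 1)).comp MvPolynomial.C)
    (dehom _ (X_mem_one k 1) (MvPolynomial.X 0))

/-- dehomogenisation `k[X₀,X₁] → k[T]` -/
noncomputable def dehomPoly : MvPolynomial (Fin (1 + 1)) k →+* Polynomial k :=
  MvPolynomial.eval₂Hom Polynomial.C ![Polynomial.X, 1]

theorem polyToAway_comp_dehomPoly :
    (polyToAway k).comp (dehomPoly k) = dehom _ (X_mem_one k 1) := by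
  apply MvPolynomial.ringHom_ext
  · intro c
    simp [polyToAway, dehomPoly]
  · intro i
    fin_cases i
    · simp [polyToAway, dehomPoly]
    · simp [polyToAway, dehomPoly, dehom_self]

theorem polyToAway_surjective : Function.Surjective (polyToAway k) := by
  intro z
  obtain ⟨a, rfl⟩ := dehom_surjective _ (X_mem_one k 1) z
  exact ⟨dehomPoly k a, by rw [← polyToAway_comp_dehomPoly]; rfl⟩

theorem chartHom_polyToAway (p : Polynomial k) :
    chartHom k K u (polyToAway k p) = Polynomial.aeval u p := by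
  have h : (chartHom k K u).comp (polyToAway k) = (Polynomial.aeval u).toRingHom := by
    apply Polynomial.ringHom_ext
    · intro c
      simp [polyToAway, chartHom_dehom, evalHom_C]
    · simp [polyToAway, chartHom_dehom, evalHom_X0]
  exact congr($h p)

theorem chartHom_injective (hu : Transcendental k u) : Function.Injective (chartHom k K u) := by
  rw [injective_iff_map_eq_zero]
  intro z hz
  obtain ⟨p, rfl⟩ := polyToAway_surjective k z
  rw [chartHom_polyToAway] at hz
  have hp : p = 0 := by
    by_contra hne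
    exact hu ⟨p, hne, hz⟩
  rw [hp, map_zero]

theorem mem_range_chartHom_self : u ∈ (chartHom k K u).range :=
  ⟨polyToAway k Polynomial.X, by rw [chartHom_polyToAway, Polynomial.aeval_X]⟩

theorem mem_range_chartHom_algebraMap (c : k) : algebraMap k K c ∈ (chartHom k K u).range :=
  ⟨polyToAway k (Polynomial.C c), by rw [chartHom_polyToAway, Polynomial.aeval_C]⟩

/-- the structure map `k → (k[X₀,X₁]_{X₁})₀` composed with the chart map -/
theorem chartHom_fromZero (a : CohB1.polyGrading 1 k 0) :
    chartHom k K u (fromZeroRingHom (CohB1.polyGrading 1 k) _ a) = evalHom k K u a :=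
  awayLift_fromZero _ _ _ a

end P1

end Groth.Agent.H22.NCurve
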