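import Mathlib.AlgebraicGeometry.ProjectiveSpectrum.Proper
import Mathlib.AlgebraicGeometry.FunctionField
import Groth.Agent.H22.NCurve.P1Chart
import Groth.Agent.H41.ProjGen

/-!
# The projective line over a field: integrality, properness and a `K`-point `[t : 1]`
-/

set_option autoImplicit false
set_option linter.style.haveILetI false
universe u

namespace Groth.Agent.H22.NCurve

open AlgebraicGeometry CategoryTheory HomogeneousLocalization

section proper
variable (k : Type u) [Field k] (n : ℕ)

instance isScalarTower_zero :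
    IsScalarTower k (CohB1.polyGrading n k 0) (MvPolynomial (Fin (n + 1)) k) :=
  IsScalarTower.of_algebraMap_eq (R := k) (S := CohB1.polyGrading n k 0)
    (A := MvPolynomial (Fin (n + 1)) k) (fun _ => rfl)

instance finiteType_zero :
    Algebra.FiniteType (CohB1.polyGrading n k 0) (MvPolynomial (Fin (n + 1)) k) :=
  Algebra.FiniteType.of_restrictScalars_finiteType k (CohB1.polyGrading n k 0)
    (MvPolynomial (Fin (n + 1)) k)

theorem algebraMap_zero_bijective :
    Function.Bijective (algebraMap k (CohB1.polyGrading n k 0)) := by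
  constructor
  · intro a b h
    exact MvPolynomial.C_injective _ _ (congrArg Subtype.val h)
  · rintro ⟨g, hg⟩
    have hg' : g ∈ (1 : Submodule k (MvPolynomial (Fin (n + 1)) k)) := by
      rw [← MvPolynomial.homogeneousSubmodule_zero]
      exact hg
    rw [Submodule.mem_one] at hg'
    obtain ⟨a, rfl⟩ := hg'
    exact ⟨a, Subtype.ext rfl⟩

instance isIso_specMap_zero :
    IsIso (Spec.map (CommRingCat.ofHom (algebraMap k (CohB1.polyGrading n k 0)))) := by
  have : IsIso (CommRingCat.ofHom (algebraMap k (CohB1.polyGrading n k 0))) :=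
    (ConcreteCategory.isIso_iff_bijective _).mpr (algebraMap_zero_bijective k n)
  infer_instance

/-- The structure morphism `Proj k[X₀..Xₙ] ⟶ Spec k`. -/
noncomputable def projToSpec : Proj (CohB1.polyGrading n k) ⟶ Spec (CommRingCat.of k) :=
  Proj.toSpecZero (CohB1.polyGrading n k) ≫
    Spec.map (CommRingCat.ofHom (algebraMap k (CohB1.polyGrading n k 0)))

instance isProper_projToSpec : IsProper (projToSpec k n) := by
  unfold projToSpec
  have h1 : IsProper (Proj.toSpecZero (CohB1.polyGrading n k)) := inferInstance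
  have h2 : IsProper (Spec.map (CommRingCat.ofHom (algebraMap k (CohB1.polyGrading n k 0)))) :=
    inferInstance
  exact MorphismProperty.comp_mem _ _ _ h1 h2

instance isIntegral_proj : IsIntegral (Proj (CohB1.polyGrading n k)) := by
  have hne : (HomogeneousIdeal.irrelevant (CohB1.polyGrading n k)).toIdeal ≠ ⊥ := by
    intro h
    have h1 : (MvPolynomial.X 0 : MvPolynomial (Fin (n + 1)) k) ∈
        (HomogeneousIdeal.irrelevant (CohB1.polyGrading n k)).toIdeal := by
      rw [HomogeneousIdeal.mem_iff, HomogeneousIdeal.mem_irrelevant_iff, GradedRing.proj_apply]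
      exact DirectSum.decompose_of_mem_ne (CohB1.polyGrading n k)
        (MvPolynomial.isHomogeneous_X k 0) one_ne_zero
    rw [h, Ideal.mem_bot] at h1
    exact MvPolynomial.X_ne_zero 0 h1
  have hirr : IrreducibleSpace (Proj (CohB1.polyGrading n k)) :=
    Groth.Agent.H41.ProjGen.irreducibleSpace_proj hne
  have hred : IsReduced (Proj (CohB1.polyGrading n k)) :=
    Groth.Agent.H41.ProjGen.isReduced_proj (fun f _ hf => hf.eq_zero)
  exact isIntegral_of_irreducibleSpace_of_isReduced (Proj (CohB1.polyGrading n k))

end proper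

section point
variable (k : Type u) [Field k] (K : Type u) [Field K] [Algebra k K] (t : K)

/-- `σ : Spec K ⟶ Proj k[X₀,X₁]`, the point `[t : 1]`. -/
noncomputable def pt : Spec (CommRingCat.of K) ⟶ Proj (CohB1.polyGrading 1 k) :=
  Spec.map (CommRingCat.ofHom (chartHom k K t)) ≫
    Proj.awayι (CohB1.polyGrading 1 k) (MvPolynomial.X 1) (X_mem_one k 1) Nat.one_pos

theorem pt_toSpec : pt k K t ≫ projToSpec k 1 =
    Spec.map (CommRingCat.ofHom (algebraMap k K)) := by
  unfold pt projToSpec
  rw [Category.assoc, Proj.awayι_toSpecZero_assoc, ← Spec.map_comp, ← Spec.map_comp]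
  congr 1
  ext c
  change chartHom k K t (fromZeroRingHom (CohB1.polyGrading 1 k) _
    (algebraMap k (CohB1.polyGrading 1 k 0) c)) = algebraMap k K c
  rw [chartHom_fromZero]
  exact evalHom_C k K t c

/-- For `t` transcendental the point `[t : 1]` is the generic point. -/
theorem pt_closedPoint (ht : Transcendental k t) :
    (pt k K t) (IsLocalRing.closedPoint K) = genericPoint (Proj (CohB1.polyGrading 1 k)) := by
  have hinj := chartHom_injective k K t ht
  haveI : IsDomain (Away (CohB1.polyGrading 1 k) (MvPolynomial.X 1)) :=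
    hinj.isDomain (chartHom k K t)
  have h1 : (Spec.map (CommRingCat.ofHom (chartHom k K t))) (IsLocalRing.closedPoint K) =
      genericPoint (Spec (CommRingCat.of (Away (CohB1.polyGrading 1 k) (MvPolynomial.X 1)))) := by
    rw [genericPoint_eq_bot_of_affine]
    apply PrimeSpectrum.ext
    change Ideal.comap (chartHom k K t) (IsLocalRing.maximalIdeal K) = ⊥
    rw [IsLocalRing.maximalIdeal_eq_bot, Ideal.comap_bot_of_injective _ hinj]
  have h2 := genericPoint_eq_of_isOpenImmersion
    (Proj.awayι (CohB1.polyGrading 1 k) (MvPolynomial.X 1) (X_mem_one k 1) Nat.one_pos)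
  unfold pt
  rw [Scheme.Hom.comp_apply, h1, h2]

/-- The induced map on function fields `k(P¹) → K`. -/
noncomputable def phi (ht : Transcendental k t) :
    (Proj (CohB1.polyGrading 1 k)).functionField →+* K :=
  ((Proj (CohB1.polyGrading 1 k)).presheaf.stalkSpecializes
    (specializes_of_eq (pt_closedPoint k K t ht)) ≫
    Scheme.stalkClosedPointTo (pt k K t)).hom

/-- The point `[t : 1]` factors through the generic point via `phi`. -/
theorem SpecMap_phi_fromSpecStalk (ht : Transcendental k t) :
    Spec.map (CommRingCat.ofHom (phi k K t ht)) ≫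
      (Proj (CohB1.polyGrading 1 k)).fromSpecStalk (genericPoint _) = pt k K t := by
  unfold phi
  rw [CommRingCat.ofHom_hom, Spec.map_comp, Category.assoc,
    Scheme.SpecMap_stalkSpecializes_fromSpecStalk, Scheme.Spec_stalkClosedPointTo_fromSpecStalk]

/-- The image of the chart ring in `K` is contained in the image of the function field. -/
theorem range_chartHom_le (ht : Transcendental k t) :
    (chartHom k K t).range ≤ (phi k K t ht).range := by
  rintro _ ⟨z, rfl⟩
  set a := Spec.map (CommRingCat.ofHom (chartHom k K t)) with ha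
  set b := Proj.awayι (CohB1.polyGrading 1 k) (MvPolynomial.X 1) (X_mem_one k 1) Nat.one_pos
    with hb
  -- the germ of `z` at the image point
  let s := ((Spec (CommRingCat.of (Away (CohB1.polyGrading 1 k) (MvPolynomial.X 1)))).presheaf.germ
    ⊤ (a (IsLocalRing.closedPoint K)) trivial).hom
      ((Scheme.ΓSpecIso (CommRingCat.of (Away (CohB1.polyGrading 1 k) (MvPolynomial.X 1)))).inv.hom z)
  have hs : (Scheme.stalkClosedPointTo a).hom s = chartHom k K t z := by
    have h := Scheme.germ_stalkClosedPointTo_Spec (CommRingCat.ofHom (chartHom k K t))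
    have h2 : (Scheme.stalkClosedPointTo a).hom s = (chartHom k K t)
        ((Scheme.ΓSpecIso (CommRingCat.of (Away (CohB1.polyGrading 1 k)
          (MvPolynomial.X 1)))).hom.hom ((Scheme.ΓSpecIso (CommRingCat.of
            (Away (CohB1.polyGrading 1 k) (MvPolynomial.X 1)))).inv.hom z)) :=
      congr($(h).hom ((Scheme.ΓSpecIso
        (CommRingCat.of (Away (CohB1.polyGrading 1 k) (MvPolynomial.X 1)))).inv.hom z))
    have h3 : (Scheme.ΓSpecIso (CommRingCat.of (Away (CohB1.polyGrading 1 k)
          (MvPolynomial.X 1)))).hom.hom ((Scheme.ΓSpecIso (CommRingCat.of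
            (Away (CohB1.polyGrading 1 k) (MvPolynomial.X 1)))).inv.hom z) = z :=
      congr($((Scheme.ΓSpecIso (CommRingCat.of (Away (CohB1.polyGrading 1 k)
          (MvPolynomial.X 1)))).inv_hom_id).hom z)
    rw [h2, h3]
  have hiso : IsIso (b.stalkMap (a (IsLocalRing.closedPoint K))) := inferInstance
  obtain ⟨w, hw⟩ := ((ConcreteCategory.isIso_iff_bijective _).mp hiso).2 s
  have hcomp : Scheme.stalkClosedPointTo (pt k K t) =
      b.stalkMap (a (IsLocalRing.closedPoint K)) ≫ Scheme.stalkClosedPointTo a :=
    Scheme.stalkClosedPointTo_comp a b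
  have hiso2 : IsIso ((Proj (CohB1.polyGrading 1 k)).presheaf.stalkSpecializes
      (specializes_of_eq (pt_closedPoint k K t ht))) :=
    ((Proj (CohB1.polyGrading 1 k)).presheaf.stalkCongr
      (Inseparable.of_eq (pt_closedPoint k K t ht).symm)).isIso_hom
  obtain ⟨w', hw'⟩ := ((ConcreteCategory.isIso_iff_bijective _).mp hiso2).2 w
  refine ⟨w', ?_⟩
  have e1 : phi k K t ht w' = (Scheme.stalkClosedPointTo (pt k K t)).hom w :=
    congrArg (Scheme.stalkClosedPointTo (pt k K t)).hom hw'
  have e2 : (Scheme.stalkClosedPointTo (pt k K t)).hom w =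
      (Scheme.stalkClosedPointTo a).hom ((b.stalkMap (a (IsLocalRing.closedPoint K))).hom w) := by
    rw [hcomp]; rfl
  have e3 : (Scheme.stalkClosedPointTo a).hom ((b.stalkMap (a (IsLocalRing.closedPoint K))).hom w) =
      (Scheme.stalkClosedPointTo a).hom s := congrArg (Scheme.stalkClosedPointTo a).hom hw
  rw [e1, e2, e3, hs]

end point

end Groth.Agent.H22.NCurve
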