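import Groth.Prelude.Def_Pi1
import Groth.Agent.H22.NCurve.Norm
import Groth.Agent.H22.NCurve.Dim
import Groth.Agent.H22.NCurve.P1
import Groth.Agent.H22.NCurve.Alg

/-!
# Existence of a normal proper curve with prescribed function field
-/

set_option autoImplicit false
set_option linter.style.haveILetI false
universe u

namespace Groth.Agent.H22.NCurve

open AlgebraicGeometry CategoryTheory Groth.Agent.H38.NormExt Groth.Agent.H38.NormAffine

attribute [local instance] Curv2.stalkAlgebra

section general
variable (k : Type u) [Field k] (P : Scheme.{u}) [P.Over (Spec (CommRingCat.of k))]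
  [IsIntegral P] [IsProper (P ↘ Spec (CommRingCat.of k))]
  (K : Type u) [Field K] [Algebra k K] (φ : P.functionField →+* K)

/-- The normalization of an integral proper `k`-scheme `P` in a finite extension `K` of its
function field of transcendence degree one over `k` is a normal proper curve with function field
`K`. -/
theorem exists_normal_proper_curve
    (hfin : letI := φ.toAlgebra; FiniteDimensional P.functionField K)
    (hk : gMor P K φ ≫ (P ↘ Spec (CommRingCat.of k)) =
      Spec.map (CommRingCat.ofHom (algebraMap k K)))
    (htr : Algebra.trdeg k K = 1) :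
    ∃ (X : Scheme.{u}) (_ : X.Over (Spec (CommRingCat.of k))) (_ : IsIntegral X),
      IsProper (X ↘ (Spec (CommRingCat.of k))) ∧ Pi1.IsNormalScheme X ∧
      (∀ x : X, IsClosed ({x} : Set X) → ringKrullDim (X.presheaf.stalk x) = 1) ∧
      ∃ e : X.presheaf.stalk (genericPoint X) ≃+* K,
        ∀ c : k, e (algebraMap k (X.presheaf.stalk (genericPoint X)) c) = algebraMap k K c := by
  haveI := quasiSeparatedSpace_of_proper k P
  letI := normOver k P K φ
  haveI hfinite : IsFinite (gMor P K φ).fromNormalization :=
    isFinite_fromNormalization k P K φ hfin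
  have hproper : IsProper ((gMor P K φ).normalization ↘ Spec (CommRingCat.of k)) := by
    change IsProper ((gMor P K φ).fromNormalization ≫ (P ↘ Spec (CommRingCat.of k)))
    infer_instance
  obtain ⟨e, he⟩ := exists_ffEquiv k P K φ hfin hk
  refine ⟨(gMor P K φ).normalization, normOver k P K φ, inferInstance, hproper,
    isNormalScheme_normalization P K φ, ?_, e, he⟩
  intro x hx
  obtain ⟨n, hn1, hn2⟩ := ringKrullDim_stalk_of_isClosed k _ x hx
  let e' : (gMor P K φ).normalization.presheaf.stalk
      (genericPoint (gMor P K φ).normalization) ≃ₐ[k] K := AlgEquiv.ofRingEquiv (f := e) he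
  rw [e'.trdeg_eq, htr] at hn1
  have h1 : n = 1 := by exact_mod_cast hn1.symm
  rw [hn2, h1]
  rfl

end general

section P1
variable (k : Type u) [Field k] (K : Type u) [Field K] [Algebra k K]

/-- Every finitely generated field extension of transcendence degree one is the function field of
a normal proper curve: the normalization of the projective line in `K`. -/
theorem exists_curve (hfg : (⊤ : IntermediateField k K).FG) (htr : Algebra.trdeg k K = 1) :
    ∃ (X : Scheme.{u}) (_ : X.Over (Spec (CommRingCat.of k))) (_ : IsIntegral X),
      IsProper (X ↘ (Spec (CommRingCat.of k))) ∧ Pi1.IsNormalScheme X ∧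
      (∀ x : X, IsClosed ({x} : Set X) → ringKrullDim (X.presheaf.stalk x) = 1) ∧
      ∃ e : X.presheaf.stalk (genericPoint X) ≃+* K,
        ∀ c : k, e (algebraMap k (X.presheaf.stalk (genericPoint X)) c) = algebraMap k K c := by
  obtain ⟨t, ht, hfin⟩ := exists_transcendental_finite k K hfg htr
  letI : (Proj (CohB1.polyGrading 1 k)).Over (Spec (CommRingCat.of k)) := ⟨projToSpec k 1⟩
  haveI : IsProper ((Proj (CohB1.polyGrading 1 k)) ↘ Spec (CommRingCat.of k)) :=
    isProper_projToSpec k 1
  refine exists_normal_proper_curve k (Proj (CohB1.polyGrading 1 k)) K (phi k K t ht) ?_ ?_ htr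
  · exact finite_of_range t (phi k K t ht)
      (range_chartHom_le k K t ht (mem_range_chartHom_self k K t))
      (fun c => range_chartHom_le k K t ht (mem_range_chartHom_algebraMap k K t c))
  · change (Spec.map (CommRingCat.ofHom (phi k K t ht)) ≫
      (Proj (CohB1.polyGrading 1 k)).fromSpecStalk (genericPoint _)) ≫ projToSpec k 1 = _
    rw [SpecMap_phi_fromSpecStalk, pt_toSpec]

end P1

end Groth.Agent.H22.NCurve
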